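import Groth.Prelude.Def_KRR
import Groth.Agent.ExtPowEx28.Basic
import Groth.Agent.KvbLam28.Basic
import Groth.Agent.VarietyLib.DegBasic
import Groth.Agent.VarietyLib.Dual
import Groth.Agent.Canon15.TopDiff
import Groth.Agent.GrassLib.PBundle.ExtBasis
import Groth.Agent.CycLib28.PB.Ops.TensorFree
import Groth.Agent.KPush28.Basic
import Groth.Agent.Surf15.Inverse
import Groth.Agent.Coherent.ProjSpaceBC
import Groth.Agent.AmpleLib.Power

/-!
# The λ-ring of vector bundles on a connected scheme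
-/

set_option autoImplicit false
set_option linter.style.haveILetI false
set_option backward.isDefEq.respectTransparency.types false

universe u

open CategoryTheory CategoryTheory.Limits AlgebraicGeometry TopologicalSpace
open Groth.Agent.Coherent

noncomputable section

namespace Groth.Agent.KModel28

variable {X : Scheme.{u}}

/-- A finite locally free module on a connected scheme has a rank. -/
theorem exists_rank [ConnectedSpace ↥X] {E : X.Modules} (hE : FlatMod.IsFinLocFree E) :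
    ∃ r, FlatMod.IsFinLocFreeOfRank r E := by
  haveI := CAlgH3.LocFreeFactor.isQCoh_of_finLocFree hE
  let ρ : X → ℕ := fun x => Module.finrank (X.presheaf.stalk x) (E.presheaf.stalk x)
  have hloc : IsLocallyConstant ρ := (IsLocallyConstant.iff_exists_open _).2 fun x => by
    obtain ⟨U, n, hx, ⟨e⟩⟩ := hE x
    exact ⟨U, U.2, hx, fun y hy => (Coherent.CohBC.finrank_stalk_of_free E hy e).trans
      (Coherent.CohBC.finrank_stalk_of_free E hx e).symm⟩
  obtain ⟨x₀⟩ := (inferInstance : Nonempty X)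
  refine ⟨ρ x₀, fun x => ?_⟩
  obtain ⟨U, n, hx, ⟨e⟩⟩ := hE x
  rw [show ρ x₀ = n from (hloc.apply_eq_of_preconnectedSpace x₀ x).trans
    (Coherent.CohBC.finrank_stalk_of_free E hx e)]
  exact ⟨U, hx, ⟨e⟩⟩

theorem rank_unique [Nonempty ↥X] {E : X.Modules} {m n : ℕ} (h : FlatMod.IsFinLocFreeOfRank m E)
    (h' : FlatMod.IsFinLocFreeOfRank n E) : m = n := by
  obtain ⟨x⟩ := (inferInstance : Nonempty X)
  rw [← VarietyLib.finrank_stalk_of_rank h x, ← VarietyLib.finrank_stalk_of_rank h' x]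

theorem rank_iso {E F : X.Modules} (e : E ≅ F) {n : ℕ} (h : FlatMod.IsFinLocFreeOfRank n E) :
    FlatMod.IsFinLocFreeOfRank n F := fun x => by
  obtain ⟨U, hx, ⟨t⟩⟩ := h x
  exact ⟨U, hx, ⟨((Scheme.Modules.restrictFunctor U.ι).mapIso e).symm ≪≫ t⟩⟩

theorem rank_structure : FlatMod.IsFinLocFreeOfRank 1 (Coh.structureModule X) :=
  PicLib.isFinLocFreeOfRank_one AmpleLib.isInvertible_structureModule

theorem cl_isZero {Z : X.Modules} (hZ : IsZero Z) : KRR.cl X Z = 0 := by
  have hS : (ShortComplex.mk (𝟙 Z) (0 : Z ⟶ Z) comp_zero).ShortExact :=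
    { exact := ShortComplex.exact_of_isZero_X₂ _ hZ
      mono_f := inferInstanceAs (Mono (𝟙 Z))
      epi_g := ⟨fun _ _ _ => hZ.eq_of_src _ _⟩ }
  have hf := ExtFilt28.isFinLocFree_isZero hZ
  exact left_eq_add.1 (ExtFilt28.clv_ses hS hf hf hf)

theorem freeMod_zero_isZero : IsZero (FlatMod.freeMod X 0) :=
  (IsZero.iff_id_eq_zero _).2 (Sigma.hom_ext _ _ fun i => i.elim0)

theorem isZero_of_rank_zero {L : X.Modules} (h : FlatMod.IsFinLocFreeOfRank 0 L) : IsZero L := by
  rw [IsZero.iff_id_eq_zero]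
  refine Scheme.Modules.hom_ext _ _ fun V => ?_
  ext z
  show (z : Γ(L, V)) = 0
  refine Props12.eq_of_nhds _ _ _ fun y hy => ?_
  obtain ⟨U, hyU, ⟨e⟩⟩ := h y
  obtain ⟨b⟩ := Props12.exists_basis_sections e (inf_le_right : V ⊓ U ≤ U)
  exact ⟨V ⊓ U, inf_le_left, ⟨hy, hyU⟩, b.ext_elem fun j => j.elim0⟩

theorem exists_model (X : Scheme.{u}) [ConnectedSpace ↥X] :
    ∃ (K : Type (u + 1)) (_ : CommRing K) (_ : LambdaRing.LambdaOps K) (P : LambdaRing.PosStructure K)
      (φ : SGA6.Kvb X →+ K), KRR.IsModel X K P φ := by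
  classical
  have hext : ∀ (i : ℕ) (E : X.Modules), FlatMod.IsFinLocFree E →
      ∃ L : X.Modules, FlatMod.IsFinLocFree L ∧ ExtPow.IsExtPow i E L := fun i _ hE => ExtPowEx28.exists_isExtPow hE i
  obtain ⟨mul, hmul⟩ := KvbLam28.exists_mul (X := X)
  obtain ⟨lam, hlam, hlam0, hlam1, hlamadd⟩ := KvbLam28.exists_lam mul hmul hext
  let _ := KvbLam28.kvbRing mul hmul
  let ops : LambdaRing.LambdaOps (SGA6.Kvb X) :=
    { lam := lam, lam_zero := hlam0, lam_one := hlam1, lam_add := hlamadd }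
  haveI : Nonempty ↥X := inferInstance
  have hrk : ∀ E : X.Modules, ∃ r : ℤ, ∀ n, FlatMod.IsFinLocFreeOfRank n E → r = n := fun E => by
    by_cases h : FlatMod.IsFinLocFree E
    · obtain ⟨r, hr⟩ := exists_rank h
      exact ⟨r, fun n hn => by rw [rank_unique hr hn]⟩
    · exact ⟨0, fun n hn => absurd (VarietyLib.isFinLocFree_of_rank hn) h⟩
  choose rk hrk using hrk
  obtain ⟨ρ, hρ⟩ := KvbLam28.exists_lift (G := ULift.{u + 1} ℤ) (fun E : X.Modules => ⟨rk E⟩) fun S hS h₁ h₂ h₃ => by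
    obtain ⟨n₁, h₁⟩ := exists_rank h₁
    obtain ⟨n₂, h₂⟩ := exists_rank h₂
    obtain ⟨n₃, h₃⟩ := exists_rank h₃
    obtain ⟨x⟩ := (inferInstance : Nonempty X)
    refine ULift.ext _ _ ?_
    show rk S.X₂ = rk S.X₁ + rk S.X₃
    rw [hrk _ n₁ h₁, hrk _ n₂ h₂, hrk _ n₃ h₃, VarietyLib.rank_add hS h₁ h₂ h₃ x]
    push_cast; rfl
  have hρcl : ∀ (n : ℕ) (E : X.Modules), FlatMod.IsFinLocFreeOfRank n E → (ρ (KRR.cl X E)).down = n :=
    fun n E hE => (congrArg ULift.down (hρ E (VarietyLib.isFinLocFree_of_rank hE))).trans (hrk E n hE)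
  have h1 : (ρ 1).down = 1 := hρcl 1 _ rank_structure
  have hmulcl : ∀ E F : X.Modules, FlatMod.IsFinLocFree E → FlatMod.IsFinLocFree F →
      KRR.cl X E * KRR.cl X F = KRR.cl X (CohB1.tensorMod E F) := hmul
  have hρmul : ∀ x y : SGA6.Kvb X, (ρ (x * y)).down = (ρ x).down * (ρ y).down := fun x y => by
    refine KvbLam28.kvb_induction (P := fun x => (ρ (x * y)).down = (ρ x).down * (ρ y).down) ?_ ?_ ?_ ?_ x
    · simp
    · intro E hE
      refine KvbLam28.kvb_induction (P := fun y => (ρ (KRR.cl X E * y)).down = (ρ (KRR.cl X E)).down * (ρ y).down) ?_ ?_ ?_ ?_ y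
      · simp
      · intro F hF
        obtain ⟨m, hm⟩ := exists_rank hE
        obtain ⟨n, hn⟩ := exists_rank hF
        show (ρ (KRR.cl X E * KRR.cl X F)).down = (ρ (KRR.cl X E)).down * (ρ (KRR.cl X F)).down
        rw [hmulcl E F hE hF, hρcl _ _ (CycLib28.PB.Ops.isFinLocFreeOfRank_tensor hm hn), hρcl _ _ hm, hρcl _ _ hn]
        push_cast; rfl
      · intro a h; simp only [mul_neg, map_neg, ULift.neg_down, h]
      · intro a b ha hb; simp only [mul_add, map_add, ULift.add_down, ha, hb]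
    · intro a h; simp only [neg_mul, map_neg, ULift.neg_down, h]
    · intro a b ha hb; simp only [add_mul, map_add, ULift.add_down, ha, hb]
  let aug : SGA6.Kvb X →+* ℤ :=
    { toFun := fun x => (ρ x).down
      map_one' := h1
      map_mul' := hρmul
      map_zero' := by simp
      map_add' := fun x y => by simp }
  let pos : Set (SGA6.Kvb X) :=
    {x | ∃ (n : ℕ) (E : X.Modules), 1 ≤ n ∧ FlatMod.IsFinLocFreeOfRank n E ∧ KRR.cl X E = x}
  have hsum : ∀ (n m : ℕ) (E F : X.Modules), FlatMod.IsFinLocFreeOfRank n E → FlatMod.IsFinLocFreeOfRank m F →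
      ∃ G : X.Modules, FlatMod.IsFinLocFreeOfRank (n + m) G ∧ KRR.cl X G = KRR.cl X E + KRR.cl X F := by
    intro n m E F hE hF
    let S := ShortComplex.mk (biprod.inl : E ⟶ E ⊞ F) biprod.snd biprod.inl_snd
    have hS : S.ShortExact := (ShortComplex.Splitting.ofHasBinaryBiproduct E F).shortExact
    have h2 := ExtFilt28.isFinLocFree_extension hS (VarietyLib.isFinLocFree_of_rank hE) (VarietyLib.isFinLocFree_of_rank hF)
    obtain ⟨r, hr⟩ := exists_rank h2
    obtain ⟨x⟩ := (inferInstance : Nonempty X)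
    rw [← VarietyLib.rank_add hS hE hr hF x]
    exact ⟨E ⊞ F, hr, ExtFilt28.clv_ses hS (VarietyLib.isFinLocFree_of_rank hE) h2 (VarietyLib.isFinLocFree_of_rank hF)⟩
  have hnat : ∀ n : ℕ, 0 < n → (n : SGA6.Kvb X) ∈ pos := by
    intro n
    induction n with
    | zero => intro h; omega
    | succ n ih =>
      intro _
      rcases Nat.eq_zero_or_pos n with rfl | hn
      · exact ⟨1, _, le_rfl, rank_structure, (Nat.cast_one (R := SGA6.Kvb X)).symm⟩
      · obtain ⟨m, E, hm, hE, he⟩ := ih hn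
        obtain ⟨G, hG, hg⟩ := hsum m 1 E _ hE rank_structure
        exact ⟨m + 1, G, by omega, hG, hg.trans ((congrArg (· + 1) he).trans (Nat.cast_succ n).symm)⟩
  have hlamcl : ∀ (i n : ℕ) (E : X.Modules), FlatMod.IsFinLocFreeOfRank n E →
      ∃ L : X.Modules, FlatMod.IsFinLocFreeOfRank (n.choose i) L ∧ ExtPow.IsExtPow i E L ∧
        lam i (KRR.cl X E) = KRR.cl X L := fun i n E hE => by
    obtain ⟨L, hL, hp⟩ := hext i E (VarietyLib.isFinLocFree_of_rank hE)
    refine ⟨L, ?_, hp, hlam i E L (VarietyLib.isFinLocFree_of_rank hE) hp⟩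
    obtain ⟨φ, hφ⟩ := hp
    have h := GrassLib.PBundle.isFinLocFreeOfRank_extPow φ hφ hE
    rwa [show Fintype.card (Set.powersetCard (Fin n) i) = n.choose i by
      rw [← Nat.card_eq_fintype_card, Set.powersetCard.card, Nat.card_eq_fintype_card, Fintype.card_fin]] at h
  let P : LambdaRing.PosStructure (SGA6.Kvb X) :=
    { aug := aug
      aug_surjective := fun z => ⟨(z : SGA6.Kvb X), map_intCast aug z⟩
      pos := pos
      add_mem := by
        rintro _ _ ⟨n, E, hn, hE, rfl⟩ ⟨m, F, hm, hF, rfl⟩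
        obtain ⟨G, hG, hg⟩ := hsum n m E F hE hF
        exact ⟨n + m, G, by omega, hG, hg⟩
      mul_mem := by
        rintro _ _ ⟨n, E, hn, hE, rfl⟩ ⟨m, F, hm, hF, rfl⟩
        exact ⟨n * m, _, Nat.one_le_iff_ne_zero.2 (Nat.mul_ne_zero (by omega) (by omega)),
          CycLib28.PB.Ops.isFinLocFreeOfRank_tensor hE hF,
          (hmulcl E F (VarietyLib.isFinLocFree_of_rank hE) (VarietyLib.isFinLocFree_of_rank hF)).symm⟩
      natCast_mem := hnat
      exists_sub := by
        intro x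
        refine KvbLam28.kvb_induction (P := fun x => ∃ e f, e ∈ pos ∧ f ∈ pos ∧ x = e - f) ?_ ?_ ?_ ?_ x
        · exact ⟨1, 1, by simpa using hnat 1 one_pos, by simpa using hnat 1 one_pos, (sub_self _).symm⟩
        · intro E hE
          obtain ⟨n, hn⟩ := exists_rank hE
          obtain ⟨G, hG, hg⟩ := hsum n 1 E _ hn rank_structure
          exact ⟨KRR.cl X G, 1, ⟨n + 1, G, by omega, hG, rfl⟩, by simpa using hnat 1 one_pos,
            (eq_sub_of_add_eq hg.symm)⟩
        · rintro a ⟨e, f, he, hf, rfl⟩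
          exact ⟨f, e, hf, he, neg_sub _ _⟩
        · rintro a b ⟨e, f, he, hf, rfl⟩ ⟨e', f', he', hf', rfl⟩
          have hadd : ∀ u v, u ∈ pos → v ∈ pos → u + v ∈ pos := by
            rintro _ _ ⟨n, E, hn, hE, rfl⟩ ⟨m, F, hm, hF, rfl⟩
            obtain ⟨G, hG, hg⟩ := hsum n m E F hE hF
            exact ⟨n + m, G, by omega, hG, hg⟩
          exact ⟨e + e', f + f', hadd _ _ he he', hadd _ _ hf hf', by abel⟩
      aug_pos := by
        rintro _ ⟨n, E, hn, hE, rfl⟩
        show 0 < (ρ (KRR.cl X E)).down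
        rw [hρcl n E hE]; omega
      lam_eq_zero := by
        rintro _ ⟨n, E, hn, hE, rfl⟩ i hi
        have hi' : n < i := by
          have : ((ρ (KRR.cl X E)).down) < (i : ℤ) := hi
          rw [hρcl n E hE] at this; omega
        obtain ⟨L, hL, -, hl⟩ := hlamcl i n E hE
        rw [Nat.choose_eq_zero_of_lt hi'] at hL
        exact hl.trans (cl_isZero (isZero_of_rank_zero hL))
      isUnit_lam := by
        rintro _ ⟨n, E, hn, hE, rfl⟩
        rw [show (aug (KRR.cl X E)).toNat = n by show ((ρ (KRR.cl X E)).down).toNat = n; rw [hρcl n E hE]; simp]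
        obtain ⟨L, hL, hp, hl⟩ := hlamcl n n E hE
        show IsUnit (lam n (KRR.cl X E))
        rw [hl]
        obtain ⟨M, hM⟩ := VarietyLib.exists_isInverseOf (Canon15.isInvertible_of_isExtPow hE hp)
        obtain ⟨e⟩ := hM
        refine IsUnit.of_mul_eq_one (KRR.cl X M) ?_
        have hM' : FlatMod.IsFinLocFree M :=
          Coherent.isFinLocFree_of_invertible (Surf15.isInvertible_inverse (Canon15.isInvertible_of_isExtPow hE hp) ⟨e⟩)
        rw [hmulcl L M (VarietyLib.isFinLocFree_of_rank hL) hM']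
        exact ExtFilt28.clv_iso e }
  refine ⟨SGA6.Kvb X, inferInstance, ops, P, AddMonoidHom.id _, Function.bijective_id, rfl,
    fun E F hE hF => hmulcl E F hE hF, fun i E L hE _ hp => hlam i E L hE hp, fun n E hE => hρcl n E hE, fun x => Iff.rfl⟩

end Groth.Agent.KModel28

end
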